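import Groth.Agent.Hopf35.Deligne
import Mathlib.AlgebraicGeometry.Group.Affine
import Mathlib.AlgebraicGeometry.Morphisms.FlatRank
import Mathlib.RingTheory.Spectrum.Prime.FreeLocus
import Mathlib.RingTheory.LocalRing.Module

set_option autoImplicit false
universe u
open CategoryTheory MonoidalCategory CartesianMonoidalCategory MonObj GrpObj AlgebraicGeometry
open WithConv

namespace Groth.Agent.Deligne57

theorem conv_pow_eq_one {C H : Type u} [CommRing C] [CommRing H] [HopfAlgebra C H]
    [Coalgebra.IsCocomm C H] [Module.Finite C H] [Module.Flat C H] (r : ℕ)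
    (hr : ∀ p : PrimeSpectrum C, Module.rankAtStalk H p = r) (f : WithConv (H →ₐ[C] C)) :
    f ^ r = 1 := by
  apply WithConv.ofConv_injective
  ext a
  refine Module.eq_of_localization_maximal (fun P _ => Localization.AtPrime P)
    (fun P _ => Algebra.linearMap C _) _ _ fun P hP => ?_
  let L := Localization.AtPrime P
  let φ : C →ₐ[C] L := Algebra.ofId C L
  have hfree : Module.Free L (TensorProduct C L H) := Module.free_of_flat_of_isLocalRing
  have hrank : Module.finrank L (TensorProduct C L H) = r := by
    rw [← hr ⟨P, hP.isPrime⟩, Module.rankAtStalk_eq_finrank_tensorProduct]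
  have key := Hopf35.Deligne.pow_card_eq_one (R := C) (A := H) (C := L)
    (Module.finBasisOfFinrankEq L _ hrank) (toConv (φ.comp f.ofConv))
  rw [Fintype.card_fin] at key
  have hc : ∀ n : ℕ, toConv (φ.comp (f ^ n).ofConv) = (toConv (φ.comp f.ofConv)) ^ n := by
    intro n
    induction n with
    | zero =>
      apply WithConv.ofConv_injective
      ext x
      simp [AlgHom.convOne_apply, φ]
    | succ n ih =>
      rw [pow_succ, pow_succ, ← ih, AlgHom.comp_convMul_distrib]
  have h1 := congrArg (fun t : WithConv (H →ₐ[C] L) => t.ofConv a) ((hc r).trans key)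
  simpa [AlgHom.convOne_apply, φ] using h1

theorem isCocomm_of_commute {C H : CommRingCat.{u}} [HopfAlgebra C H]
    (h : ∀ (X : Over (Spec C)) (a b : X ⟶ (Spec H).asOver (Spec C)), a * b = b * a) :
    Coalgebra.IsCocomm C H := by
  let T := TensorProduct C H H
  let il : WithConv (H →ₐ[C] T) := toConv Algebra.TensorProduct.includeLeft
  let ir : WithConv (H →ₐ[C] T) := toConv Algebra.TensorProduct.includeRight
  have e : il * ir = ir * il := (Spec.mapMulEquiv (R := C) (S := H) (T := T)).injective (by
    rw [map_mul, map_mul]; exact h _ _ _)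
  refine ⟨LinearMap.ext fun a => ?_⟩
  have e' := congrArg (fun t : WithConv (H →ₐ[C] T) => t.ofConv a) e
  have hl : ∀ t : T, (Algebra.TensorProduct.lmul' C) (Algebra.TensorProduct.map il.ofConv ir.ofConv t) = t := by
    intro t
    induction t using TensorProduct.induction_on with
    | zero => simp
    | add p q hp hq => simp only [map_add, hp, hq]
    | tmul x y =>
      simp [il, ir]
      exact (Algebra.TensorProduct.tmul_mul_tmul _ _ _ _).trans (by simp)
  have hr : ∀ t : T, (Algebra.TensorProduct.lmul' C) (Algebra.TensorProduct.map ir.ofConv il.ofConv t) =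
      TensorProduct.comm C H H t := by
    intro t
    induction t using TensorProduct.induction_on with
    | zero => simp
    | add p q hp hq => simp only [map_add, hp, hq]
    | tmul x y =>
      simp [il, ir]
      exact (Algebra.TensorProduct.tmul_mul_tmul _ _ _ _).trans (by simp)
  simp only [AlgHom.convMul_def, AlgHom.comp_apply] at e'
  rw [hl, hr] at e'
  exact e'.symm

theorem pow_eq_one_affine {C : CommRingCat.{u}} (G : Over (Spec C)) [GrpObj G] [IsCommMonObj G]
    [IsFinite G.hom] [Flat G.hom] (r : ℕ) (hr : ∀ p, Scheme.Hom.finrank G.hom p = r)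
    (g : (Spec C).asOver (Spec C) ⟶ G) : g ^ r = 1 := by
  have : IsAffine G.left := isAffine_of_isAffineHom G.hom
  obtain ⟨Hop, ⟨e⟩⟩ := (essImage_hopfSpec (G := Grp.mk G)).2 ‹_›
  let H := Hop.unop
  let ψ : (Spec (CommRingCat.of H)).asOver (Spec C) ≅ G := (Grp.forget _).mapIso e
  have : IsMonHom ψ.hom := e.hom.hom.isMonHom_hom
  have : IsMonHom ψ.inv := e.inv.hom.isMonHom_hom
  have hhom : ψ.hom.left ≫ G.hom = Spec.map (CommRingCat.ofHom (algebraMap C H)) := Over.w ψ.hom
  have : IsIso ψ.hom.left := ((Over.forget _).mapIso ψ).isIso_hom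
  have hfin : IsFinite (Spec.map (CommRingCat.ofHom (algebraMap C H))) := by
    rw [← hhom]; exact (MorphismProperty.cancel_left_of_respectsIso @IsFinite ψ.hom.left G.hom).2 ‹_›
  have hflat : Flat (Spec.map (CommRingCat.ofHom (algebraMap C H))) := by
    rw [← hhom]; exact (MorphismProperty.cancel_left_of_respectsIso @Flat ψ.hom.left G.hom).2 ‹_›
  rw [IsFinite.SpecMap_iff, CommRingCat.hom_ofHom, RingHom.finite_algebraMap] at hfin
  rw [Flat.SpecMap_iff, CommRingCat.hom_ofHom, RingHom.flat_algebraMap_iff] at hflat
  have : Coalgebra.IsCocomm C H := isCocomm_of_commute (H := CommRingCat.of H) fun X a b => by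
    rw [← cancel_mono ψ.hom, mul_comp, mul_comp]
    exact mul_comm _ _
  have hr' : ∀ p : PrimeSpectrum C, Module.rankAtStalk H p = r := fun p => by
    rw [← Scheme.Hom.finrank_SpecMap_algebraMap C H p, ← hr p]
    exact congrFun (show _ = Scheme.Hom.finrank G.hom by
      rw [← Scheme.Hom.finrank_comp_left_of_isIso ψ.hom.left G.hom]; simp only [hhom]; rfl) p
  let E := Spec.mapMulEquiv (R := C) (S := H) (T := C)
  let f : WithConv (H →ₐ[C] C) := E.symm (g ≫ ψ.inv)
  have hf := congrArg E (conv_pow_eq_one r hr' f)
  rw [map_pow, map_one, show E f = g ≫ ψ.inv from E.apply_symm_apply _] at hf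
  rw [← cancel_mono ψ.inv, MonObj.pow_comp, MonObj.one_comp]
  exact hf

end Groth.Agent.Deligne57
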