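import Groth.Agent.Deligne57.Affine
import Mathlib.CategoryTheory.Monoidal.Cartesian.Over
import Mathlib.AlgebraicGeometry.Cover.Open

set_option autoImplicit false
universe u
open CategoryTheory CategoryTheory.Limits MonoidalCategory CartesianMonoidalCategory MonObj GrpObj AlgebraicGeometry

namespace Groth.Agent.Deligne57

theorem pow_eq_one {S : Scheme.{u}} (G : Over S) [GrpObj G] [IsCommMonObj G]
    [IsFinite G.hom] [Flat G.hom] (r : ℕ) (hr : ∀ s, Scheme.Hom.finrank G.hom s = r)
    (T : Over S) (g : T ⟶ G) : g ^ r = 1 := by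
  ext : 1
  refine Scheme.Cover.hom_ext T.left.affineCover _ _ fun i => ?_
  obtain ⟨C, hC⟩ : ∃ C : CommRingCat.{u}, T.left.affineCover.X i = Spec C := ⟨_, rfl⟩
  let w := eqToHom hC.symm ≫ T.left.affineCover.f i
  suffices h : w ≫ (g ^ r).left = w ≫ (1 : T ⟶ G).left by
    exact (cancel_epi (eqToHom hC.symm)).1 (by simpa [w] using h)
  clear_value w
  let u : Spec C ⟶ S := w ≫ T.hom
  let j : Over.mk u ⟶ T := Over.homMk w rfl
  let g' : Over.mk u ⟶ G := j ≫ g
  suffices h : g' ^ r = 1 by
    rw [show g' ^ r = j ≫ g ^ r by simp [g', MonObj.comp_pow], ← MonObj.comp_one j] at h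
    exact congrArg Over.Hom.left h
  let F := Over.pullback u
  let : GrpObj (F.obj G) := Functor.grpObjObj
  have : IsFinite (F.obj G).hom := MorphismProperty.pullback_snd (P := @IsFinite) _ _ ‹_›
  have : Flat (F.obj G).hom := MorphismProperty.pullback_snd (P := @Flat) _ _ ‹_›
  let t : ((Spec C).asOver (Spec C)).left ⟶ Spec C := ((Spec C).asOver (Spec C)).hom
  have ht : t = 𝟙 _ := Spec.map_id C
  let δ : (Spec C).asOver (Spec C) ⟶ F.obj (Over.mk u) :=
    Over.homMk (pullback.lift t t rfl) (pullback.lift_snd _ _ _)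
  have key := pow_eq_one_affine (F.obj G) r
    (fun p => (Scheme.Hom.finrank_pullback_snd G.hom u p).trans (hr _)) (δ ≫ F.map g')
  have h2 : δ ≫ F.map (g' ^ r) = δ ≫ F.map (1 : Over.mk u ⟶ G) := by
    rw [show F.map (g' ^ r) = F.map g' ^ r from map_pow F.homMonoidHom g' r,
      show F.map (1 : Over.mk u ⟶ G) = 1 from map_one F.homMonoidHom, MonObj.comp_pow,
      MonObj.comp_one]
    exact key
  ext : 1
  have h3 := congrArg (fun z => Over.Hom.left z ≫ pullback.fst G.hom u) h2
  simp only [Over.comp_left, F, Over.pullback_map_left, Category.assoc, pullback.lift_fst, δ,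
    Over.homMk_left, pullback.lift_fst_assoc] at h3
  rw [ht] at h3
  exact (Category.id_comp _).symm.trans (h3.trans (Category.id_comp _))

end Groth.Agent.Deligne57
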